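import Groth.Agent.CIntLib.BlowExc
import Groth.Agent.CAlgGlobalDim.RegSeq
import Groth.Agent.ModPairLib.Quot
import Groth.Agent.FComplLib.IdealComap

/-!
# The pull-back of a divisor to the blow-up of a quasi-regular centre
-/

set_option autoImplicit false
universe u

open CategoryTheory CategoryTheory.Limits AlgebraicGeometry
open MvPolynomial (eval aeval)

namespace Groth.Agent.ZBMult

variable {A : Type u} [CommRing A]

theorem exists_homogeneous {n : ℕ} (r : Fin n → A) :
    ∀ (μ : ℕ) {f : A}, f ∈ Ideal.span (Set.range r) ^ μ →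
      ∃ P : MvPolynomial (Fin n) A, P.IsHomogeneous μ ∧ eval r P = f
  | 0, f, _ => ⟨MvPolynomial.C f, MvPolynomial.isHomogeneous_C _ f, MvPolynomial.eval_C f⟩
  | μ + 1, f, hf => by
    rw [pow_succ'] at hf
    induction hf using Submodule.mul_induction_on' with
    | mem_mul_mem a ha b hb =>
      obtain ⟨Q, hQ, rfl⟩ := exists_homogeneous r μ hb
      obtain ⟨c, rfl⟩ := Ideal.mem_span_range_iff_exists_fun.mp ha
      refine ⟨(∑ i, MvPolynomial.C (c i) * MvPolynomial.X i) * Q, ?_, by simp⟩
      rw [add_comm μ 1]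
      exact (MvPolynomial.IsHomogeneous.sum _ _ _ fun i _ =>
        MvPolynomial.isHomogeneous_C_mul_X (c i) i).mul hQ
    | add a _ b _ ha hb =>
      obtain ⟨P, hP, rfl⟩ := ha
      obtain ⟨Q, hQ, rfl⟩ := hb
      exact ⟨P + Q, hP.add hQ, map_add _ _ _⟩

/-- Setting the `j`-th variable to one. -/
noncomputable def dehom {n : ℕ} (j : Fin n) :
    MvPolynomial (Fin n) A →ₐ[A] MvPolynomial {i : Fin n // i ≠ j} A :=
  aeval fun i => if h : i = j then 1 else MvPolynomial.X ⟨i, h⟩

theorem coeff_dehom {n : ℕ} (j : Fin n) {P : MvPolynomial (Fin n) A} {d : ℕ} (hP : P.IsHomogeneous d)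
    {e : Fin n →₀ ℕ} (he : P.coeff e ≠ 0) :
    (dehom j P).coeff (e.subtypeDomain (· ≠ j)) = P.coeff e := by
  classical
  have hmon : ∀ (m : Fin n →₀ ℕ) (c : A), dehom j (MvPolynomial.monomial m c) =
      MvPolynomial.monomial (m.subtypeDomain (· ≠ j)) c := by
    intro m c
    rw [dehom, MvPolynomial.aeval_monomial, Finsupp.prod_fintype _ _ (fun i => pow_zero _),
      MvPolynomial.monomial_eq, Finsupp.prod_fintype _ _ (fun i => pow_zero _),
      MvPolynomial.algebraMap_eq]
    congr 1
    rw [← Finset.mul_prod_erase _ _ (Finset.mem_univ j), dif_pos rfl, one_pow, one_mul,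
      Finset.prod_subtype (Finset.univ.erase j) (p := fun i => i ≠ j) (by simp)]
    exact Finset.prod_congr rfl fun i _ => by rw [dif_neg i.2]; rfl
  conv_lhs => rw [P.as_sum]
  rw [map_sum, MvPolynomial.coeff_sum, Finset.sum_eq_single e]
  · rw [hmon, MvPolynomial.coeff_monomial, if_pos rfl]
  · intro m hm hme
    rw [hmon, MvPolynomial.coeff_monomial, if_neg]
    intro hsub
    refine hme (Finsupp.ext fun i => ?_)
    have h1 := hP (MvPolynomial.mem_support_iff.mp hm)
    have h2 := hP he
    have hoff : ∀ i, i ≠ j → m i = e i := fun i hi => DFunLike.congr_fun hsub ⟨i, hi⟩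
    by_cases hi : i = j
    · subst hi
      rw [Finsupp.weight_apply, Finsupp.sum_fintype _ _ (fun _ => by simp)] at h1 h2
      simp only [Pi.one_apply, smul_eq_mul, mul_one] at h1 h2
      have h3 : ∑ k ∈ Finset.univ.erase i, m k = ∑ k ∈ Finset.univ.erase i, e k :=
        Finset.sum_congr rfl fun k hk => hoff k (Finset.ne_of_mem_erase hk)
      rw [← Finset.add_sum_erase _ _ (Finset.mem_univ i)] at h1 h2
      omega
    · exact hoff i hi
  · intro h
    exact absurd (MvPolynomial.notMem_support_iff.mp h) he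

section Chart

variable {n : ℕ} (r : Fin n → A) (j : Fin n)

local notation "I₀" => Ideal.span (Set.range r)
local notation "B₀" => BlowUp.affineAlgebra A (Ideal.span (Set.range r)) (r j)

theorem map_eq_span : (I₀).map (algebraMap A B₀) = Ideal.span {algebraMap A B₀ (r j)} := by
  refine le_antisymm ?_ ((Ideal.span_singleton_le_iff_mem _).mpr
    (Ideal.mem_map_of_mem _ (Ideal.subset_span ⟨j, rfl⟩)))
  rw [Ideal.map_le_iff_le_comap, Ideal.span_le]
  rintro _ ⟨i, rfl⟩
  exact Ideal.mem_span_singleton'.mpr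
    ⟨CIntLib.ratio r j i, (mul_comm _ _).trans (CIntLib.algebraMap_mul_ratio r j i)⟩

theorem eval_eq {d : ℕ} {P : MvPolynomial (Fin n) A} (hP : P.IsHomogeneous d) :
    algebraMap A B₀ (eval r P) = algebraMap A B₀ (r j) ^ d * CIntLib.ratioHom r j (dehom j P) := by
  have h1 : aeval (fun i => algebraMap A B₀ (r j) * CIntLib.ratio r j i) P =
      algebraMap A B₀ (eval r P) := by
    simp only [CIntLib.algebraMap_mul_ratio]
    rw [MvPolynomial.aeval_def, MvPolynomial.eval₂_comp]
    rfl
  rw [← h1, CIntLib.aeval_const_mul hP]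
  congr 1
  rw [dehom, ← AlgHom.comp_apply, MvPolynomial.comp_aeval]
  congr 2
  funext i
  by_cases h : i = j
  · subst h
    simp [CIntLib.ratio_self]
  · simp [CIntLib.ratioHom, h]

variable (hr : ∀ (d : ℕ) (P : MvPolynomial (Fin n) A), P.IsHomogeneous d →
      eval r P ∈ Ideal.span (Set.range r) ^ (d + 1) →
        ∀ e, P.coeff e ∈ Ideal.span (Set.range r))

include hr in
theorem ratioHom_dehom_notMem {d : ℕ} {P : MvPolynomial (Fin n) A} (hP : P.IsHomogeneous d)
    (hf : eval r P ∉ (I₀) ^ (d + 1)) :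
    CIntLib.ratioHom r j (dehom j P) ∉ Ideal.span {algebraMap A B₀ (r j)} := by
  intro hmem
  have h1 := MvPolynomial.mem_map_C_iff.mp (CIntLib.mem_map_C_of_ratioHom_mem r j hr hmem)
  refine hf ?_
  have hc : ∀ e, P.coeff e ∈ I₀ := fun e => by
    by_cases he : P.coeff e = 0
    · rw [he]; exact zero_mem _
    · rw [← coeff_dehom j hP he]; exact h1 _
  rw [P.as_sum, map_sum]
  refine sum_mem fun e he => ?_
  rw [MvPolynomial.eval_monomial, pow_succ']
  refine Ideal.mul_mem_mul (hc e) ?_
  have hdeg : ∑ i ∈ e.support, e i = d := by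
    have h2 := hP (MvPolynomial.mem_support_iff.mp he)
    simpa [Finsupp.weight_apply, Finsupp.sum] using h2
  rw [← hdeg, Finsupp.prod, ← Finset.prod_pow_eq_pow_sum]
  exact Ideal.prod_mem_prod fun i _ =>
    Ideal.pow_mem_pow (show r i ∈ I₀ from Ideal.subset_span (Set.mem_range_self i)) _

include hr in
theorem isPrime_span (hI : (I₀).IsMaximal) : (Ideal.span {algebraMap A B₀ (r j)}).IsPrime := by
  classical
  letI := Ideal.Quotient.field I₀
  have hle : Ideal.map MvPolynomial.C (I₀) ≤
      (Ideal.span {algebraMap A B₀ (r j)}).comap (CIntLib.ratioHom r j).toRingHom := by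
    rw [Ideal.map_le_iff_le_comap]
    intro c hc
    rw [Ideal.mem_comap, Ideal.mem_comap, ← map_eq_span]
    simpa [CIntLib.ratioHom] using Ideal.mem_map_of_mem (algebraMap A B₀) hc
  have hker : ∀ P : MvPolynomial {i : Fin n // i ≠ j} A,
      MvPolynomial.map (Ideal.Quotient.mk I₀) P = 0 ↔ P ∈ Ideal.map MvPolynomial.C (I₀) := fun P => by
    rw [MvPolynomial.mem_map_C_iff, MvPolynomial.ext_iff]
    exact forall_congr' fun m => by rw [MvPolynomial.coeff_map, MvPolynomial.coeff_zero, Ideal.Quotient.eq_zero_iff_mem]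
  refine ⟨fun htop => ?_, fun {x y} hxy => ?_⟩
  · have h1 : CIntLib.ratioHom r j 1 ∈ Ideal.span {algebraMap A B₀ (r j)} := by
      rw [htop]; trivial
    have h2 := (hker 1).mpr (CIntLib.mem_map_C_of_ratioHom_mem r j hr h1)
    rw [map_one] at h2
    exact one_ne_zero h2
  · obtain ⟨P, rfl⟩ := CIntLib.ratioHom_surjective r j x
    obtain ⟨Q, rfl⟩ := CIntLib.ratioHom_surjective r j y
    rw [← map_mul] at hxy
    have h2 := (hker _).mpr (CIntLib.mem_map_C_of_ratioHom_mem r j hr hxy)
    rw [map_mul, mul_eq_zero] at h2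
    exact h2.imp (fun h => hle ((hker P).mp h)) (fun h => hle ((hker Q).mp h))

end Chart

theorem centre_pow (I : Ideal A) (d : ℕ) : BlowUpLib.centre I ^ d = BlowUpLib.centre (I ^ d) := by
  refine Scheme.IdealSheafData.ext_of_isAffine ?_
  rw [Scheme.IdealSheafData.ideal_pow, Pi.pow_apply, BlowUpLib.centre_top, BlowUpLib.centre_top,
    Ideal.map_pow]

theorem centre_mul (I J : Ideal A) :
    BlowUpLib.centre I * BlowUpLib.centre J = BlowUpLib.centre (I * J) := by
  refine Scheme.IdealSheafData.ext_of_isAffine ?_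
  rw [Scheme.IdealSheafData.ideal_mul, Pi.mul_apply, BlowUpLib.centre_top, BlowUpLib.centre_top,
    BlowUpLib.centre_top, Ideal.map_mul]

theorem centre_le_iff (I J : Ideal A) : BlowUpLib.centre I ≤ BlowUpLib.centre J ↔ I ≤ J := by
  constructor
  · intro h
    have h1 := h ⟨⊤, isAffineOpen_top _⟩
    rw [BlowUpLib.centre_top, BlowUpLib.centre_top] at h1
    exact (Ideal.map_le_iff_le_comap.mp h1).trans (le_of_eq (Ideal.comap_map_of_bijective _
      (Scheme.ΓSpecIso (CommRingCat.of A)).symm.commRingCatIsoToRingEquiv.bijective))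
  · intro h
    refine Scheme.IdealSheafData.le_of_isAffine ?_
    rw [BlowUpLib.centre_top, BlowUpLib.centre_top]
    exact Ideal.map_mono h

theorem isEffCartier_centre [IsDomain A] {a : A} (ha : a ≠ 0) :
    BlowUp.IsEffCartierIdeal (BlowUpLib.centre (Ideal.span {a})) := fun x =>
  ⟨⟨⊤, isAffineOpen_top _⟩, trivial, (Scheme.ΓSpecIso (CommRingCat.of A)).inv.hom a, by
    rw [mem_nonZeroDivisors_iff_right]
    intro z hz
    let e := (Scheme.ΓSpecIso (CommRingCat.of A)).commRingCatIsoToRingEquiv
    apply e.injective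
    have h1 := congrArg e hz
    rw [map_mul, map_zero] at h1
    rw [map_zero]
    refine (mul_eq_zero.mp h1).resolve_right fun h2 => ha ?_
    rw [← h2]
    exact (e.apply_symm_apply a).symm, by
    rw [BlowUpLib.centre_top, Ideal.map_span, Set.image_singleton]⟩

/-- The main statement, in centre form. -/
theorem pullback_divisor [IsDomain A] {n : ℕ} (r : Fin n → A) (j₀ : Fin n)
    (hr0 : ∀ j, r j ≠ 0)
    (hr : ∀ (d : ℕ) (P : MvPolynomial (Fin n) A), P.IsHomogeneous d →
      eval r P ∈ Ideal.span (Set.range r) ^ (d + 1) →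
        ∀ e, P.coeff e ∈ Ideal.span (Set.range r))
    (hI : (Ideal.span (Set.range r)).IsMaximal)
    {X : Scheme.{u}} (b : X ⟶ Spec (CommRingCat.of A))
    (hb : BlowUp.IsBlowUp b (BlowUpLib.centre (Ideal.span (Set.range r))))
    (f : A) (μ : ℕ) (hf : f ∈ Ideal.span (Set.range r) ^ μ)
    (hf' : f ∉ Ideal.span (Set.range r) ^ (μ + 1)) :
    (BlowUpLib.centre (Ideal.span {f})).comap b ≤
        (BlowUpLib.centre (Ideal.span (Set.range r))).comap b ^ μ ∧
      ¬ (BlowUpLib.centre (Ideal.span {f})).comap b ≤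
        (BlowUpLib.centre (Ideal.span (Set.range r))).comap b ^ (μ + 1) ∧
      ∃ I' : X.IdealSheafData, BlowUp.IsEffCartierIdeal I' ∧
        (BlowUpLib.centre (Ideal.span {f})).comap b =
          I' * (BlowUpLib.centre (Ideal.span (Set.range r))).comap b ^ μ ∧
        ¬ (((BlowUpLib.centre (Ideal.span (Set.range r))).comap b).support : Set X) ⊆
          (I'.support : Set X) := by
  set I := Ideal.span (Set.range r)
  set E := (BlowUpLib.centre I).comap b
  set J := (BlowUpLib.centre (Ideal.span {f})).comap b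
  have hf0 : f ≠ 0 := fun h => hf' (h ▸ zero_mem _)
  have hE : ∀ d, BlowUp.IsEffCartierIdeal (E ^ d) := fun d => by
    induction d with
    | zero => rw [pow_zero]; exact BlowUpLib.isEffCartier_top X
    | succ d ih => rw [pow_succ]; exact ModPairLib.isEffCartier_mul ih hb.1
  have hle : J ≤ E ^ μ := by
    show J ≤ (BlowUpLib.centre I).comap b ^ μ
    rw [← FComplLib.comap_pow, centre_pow]
    exact Scheme.IdealSheafData.comap_mono b
      ((centre_le_iff _ _).mpr ((Ideal.span_singleton_le_iff_mem _).mpr hf))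
  -- the charts
  have hdom : ∀ j, IsDomain (Localization.Away (r j)) := fun j =>
    IsLocalization.isDomain_localization (powers_le_nonZeroDivisors_of_noZeroDivisors (hr0 j))
  obtain ⟨σ, hσ⟩ := BlowUpLib.exists_iso (BlowUpLib.isBlowUp_local I) hb
  let k : ∀ j : Fin n, Spec (CommRingCat.of (BlowUp.affineAlgebra A I (r j))) ⟶ X := fun j =>
    BlowUpLib.chart I ⟨r j, Ideal.subset_span ⟨j, rfl⟩⟩ ≫ σ.hom
  have hkb : ∀ j, k j ≫ b = Spec.map (CommRingCat.ofHom (algebraMap A _)) := fun j => by
    simp only [k, Category.assoc, hσ, BlowUpLib.chart_toBase]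
  have hkJ : ∀ j, J.comap (k j) =
      BlowUpLib.centre (Ideal.span {algebraMap A (BlowUp.affineAlgebra A I (r j)) f}) := fun j => by
    rw [← Scheme.IdealSheafData.comap_comp, hkb, CIntLib.centre_comap_specMap, Ideal.map_span,
      Set.image_singleton]
  have hkE : ∀ j, E.comap (k j) =
      BlowUpLib.centre (Ideal.span {algebraMap A (BlowUp.affineAlgebra A I (r j)) (r j)}) := fun j => by
    rw [← Scheme.IdealSheafData.comap_comp, hkb, CIntLib.centre_comap_specMap, map_eq_span]
  have hinj : ∀ j, Function.Injective (algebraMap A (Localization.Away (r j))) := fun j =>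
    IsLocalization.injective _ (powers_le_nonZeroDivisors_of_noZeroDivisors (hr0 j))
  have hne : ∀ j (a : A), a ≠ 0 → algebraMap A (BlowUp.affineAlgebra A I (r j)) a ≠ 0 :=
    fun j a ha h => ha (hinj j (by rw [map_zero]; exact congrArg Subtype.val h))
  have hJ : BlowUp.IsEffCartierIdeal J := by
    refine ModPairLib.isEffCartier_of_comap k (fun x => ?_) fun j => ?_
    · obtain ⟨j, hj⟩ := TopologicalSpace.Opens.mem_iSup.mp
        ((Proj.iSup_basicOpen_eq_top (BlowUpLib.deg I) _
          ((BlowUpLib.irrelevant_le_span_gen I).trans (CIntLib.span_gen_le r))).ge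
            (Set.mem_univ (σ.inv x)))
      rw [← BlowUpLib.opensRange_chart] at hj
      obtain ⟨z, hz⟩ := hj
      refine ⟨j, z, ?_⟩
      show σ.hom (BlowUpLib.chart I _ z) = x
      rw [hz, ← Scheme.Hom.comp_apply, σ.inv_hom_id]
      rfl
    · haveI := hdom j
      rw [hkJ]
      exact isEffCartier_centre (hne j f hf0)
  obtain ⟨P, hP, rfl⟩ := exists_homogeneous r μ hf
  have hg := ratioHom_dehom_notMem r j₀ hr hP hf'
  have hprime := isPrime_span r j₀ hr hI
  haveI := hdom j₀
  set u := algebraMap A (BlowUp.affineAlgebra A I (r j₀)) (r j₀) with hu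
  set g := CIntLib.ratioHom r j₀ (dehom j₀ P) with hgdef
  have hu0 : u ≠ 0 := hne j₀ _ (hr0 j₀)
  have hfac : algebraMap A (BlowUp.affineAlgebra A I (r j₀)) (eval r P) = g * u ^ μ :=
    (eval_eq r j₀ hP).trans (mul_comm _ _)
  refine ⟨hle, fun h => hg ?_, ModPairLib.colon J (E ^ μ)
    (ModPairLib.isLocPrincipal_of_isEffCartier (hE μ)), ?_, (ModPairLib.colon_mul (hE μ) hle).symm, ?_⟩
  · have h1 := Scheme.IdealSheafData.comap_mono (k j₀) h
    dsimp only at h1
    rw [hkJ, FComplLib.comap_pow, hkE, centre_pow, centre_le_iff, Ideal.span_singleton_pow,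
      Ideal.span_singleton_le_iff_mem, Ideal.mem_span_singleton', hfac, pow_succ'] at h1
    obtain ⟨c, hc⟩ := h1
    refine Ideal.mem_span_singleton'.mpr ⟨c, mul_right_cancel₀ (pow_ne_zero μ hu0) ?_⟩
    rw [← hc, mul_assoc]
  · refine ModPairLib.isEffCartier_of_mul (hE μ) ?_
    rw [ModPairLib.colon_mul (hE μ) hle]
    exact hJ
  · intro hsub
    set I' := ModPairLib.colon J (E ^ μ) (ModPairLib.isLocPrincipal_of_isEffCartier (hE μ))
    have h1 : I'.comap (k j₀) = BlowUpLib.centre (Ideal.span {g}) := by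
      refine ModPairLib.eq_of_mul_eq_mul
        (isEffCartier_centre (pow_ne_zero μ hu0)) ?_
      rw [centre_mul, Ideal.span_singleton_mul_span_singleton, ← hfac, ← hkJ,
        ← ModPairLib.colon_mul (hE μ) hle, FComplLib.comap_mul, FComplLib.comap_pow, hkE, centre_pow,
        Ideal.span_singleton_pow]
    let η : Spec (CommRingCat.of (BlowUp.affineAlgebra A I (r j₀))) :=
      ⟨Ideal.span {u}, hprime⟩
    have hsupp : ∀ a, η ∈ ((BlowUpLib.centre (Ideal.span {a})).support :
        Set (Spec (CommRingCat.of (BlowUp.affineAlgebra A I (r j₀))))) ↔ a ∈ Ideal.span {u} := by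
      intro a
      rw [BlowUpLib.centre, Scheme.IdealSheafData.coe_support_ofIdealTop, Ideal.map_span,
        Set.image_singleton, Scheme.zeroLocus_span, Scheme.zeroLocus_singleton, Set.mem_compl_iff,
        SetLike.mem_coe, basicOpen_eq_of_affine]
      show ¬ a ∉ Ideal.span {u} ↔ _
      exact not_not
    have hηE : k j₀ η ∈ (E.support : Set X) := by
      have := (hsupp u).mpr (Ideal.mem_span_singleton_self u)
      rw [← hkE, Scheme.IdealSheafData.support_comap] at this
      exact this
    have hηI : η ∈ ((I'.comap (k j₀)).support :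
        Set (Spec (CommRingCat.of (BlowUp.affineAlgebra A I (r j₀))))) := by
      rw [Scheme.IdealSheafData.support_comap]
      exact hsub hηE
    rw [h1] at hηI
    exact hg ((hsupp g).mp hηI)

end Groth.Agent.ZBMult
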